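import Mathlib
import Cfsg.Prelude.Def_GeometricClasses

/-! S5634 (monomial half, driver helper19): common definitions.

`N` = the monomial matrices of determinant one.  Main claim: a subgroup `M` of `SL ι K` (`|K| ≥ 5`, `|ι| ≥ 6`)
containing `N` and a non-monomial matrix contains an elementary transvection `1 + ξ e_{ab}`. -/

set_option autoImplicit false

namespace Cfsg.Agent.MonoP

open Matrix

variable {ι : Type} [Fintype ι] [DecidableEq ι] {K : Type*} [Field K]

/-- `g` is a monomial matrix: its entries vanish outside the graph of a permutation. -/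
def IsMono (g : Matrix ι ι K) : Prop := ∃ σ : Equiv.Perm ι, ∀ i j, i ≠ σ j → g i j = 0

/-- `g` is the identity outside the `A × A` block. -/
def SuppOn (A : Finset ι) (g : Matrix ι ι K) : Prop :=
  ∀ i j, (i ∉ A ∨ j ∉ A) → g i j = (1 : Matrix ι ι K) i j

/-- the diagonal matrix with unit entries `d`, as an element of `GL`. -/
def dg (d : ι → Kˣ) : GL ι K :=
  ⟨Matrix.diagonal (fun i => ((d i : Kˣ) : K)), Matrix.diagonal (fun i => (((d i)⁻¹ : Kˣ) : K)),
    by rw [Matrix.diagonal_mul_diagonal]; simp,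
    by rw [Matrix.diagonal_mul_diagonal]; simp⟩

@[simp] theorem dg_val (d : ι → Kˣ) :
    ((dg d : GL ι K) : Matrix ι ι K) = Matrix.diagonal (fun i => ((d i : Kˣ) : K)) := rfl

@[simp] theorem dg_inv_val (d : ι → Kˣ) :
    (((dg d)⁻¹ : GL ι K) : Matrix ι ι K) = Matrix.diagonal (fun i => (((d i)⁻¹ : Kˣ) : K)) := rfl

/-- `d_k(η)`: the diagonal matrix with `η` at position `k` and `1` elsewhere. -/
def d1 (k : ι) (η : Kˣ) : GL ι K := dg (Function.update (fun _ => (1 : Kˣ)) k η)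

/-- `d_{kl}(η)`: `η` at `k`, `η⁻¹` at `l`, `1` elsewhere (`k ≠ l` intended); determinant one. -/
def d2 (k l : ι) (η : Kˣ) : GL ι K :=
  dg (Function.update (Function.update (fun _ => (1 : Kˣ)) k η) l η⁻¹)

/-- `H` contains an elementary transvection `1 + ξ e_{ab}`, `a ≠ b`, `ξ ≠ 0`. -/
def HasE (H : Subgroup (GL ι K)) : Prop :=
  ∃ a b : ι, a ≠ b ∧ ∃ ξ : K, ξ ≠ 0 ∧ ∃ g ∈ H, (g : Matrix ι ι K) = Matrix.transvection a b ξ

/-- `H` contains every monomial matrix. -/
def MonoLE (H : Subgroup (GL ι K)) : Prop := ∀ g : GL ι K, IsMono (g : Matrix ι ι K) → g ∈ H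

/-- `M` contains every monomial matrix of determinant one. -/
def MonoSLE (M : Subgroup (GL ι K)) : Prop :=
  ∀ g : GL ι K, IsMono (g : Matrix ι ι K) → (g : Matrix ι ι K).det = 1 → g ∈ M

/-- column `k` of `y` has at most one non-zero entry (at row `k'`). -/
def ColMono (y : Matrix ι ι K) : Prop := ∃ k k' : ι, ∀ i, i ≠ k' → y i k = 0

/-! ### the section at a coordinate `o`: action of the stabiliser of `⟨e_o⟩` on `V / ⟨e_o⟩` -/

/-- The matrices on the index type `{i // i ≠ o}` induced by the elements of `M` whose column `o` is a multiple of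
`e_o`. -/
def secSet (M : Subgroup (GL ι K)) (o : ι) : Set (GL {i : ι // i ≠ o} K) :=
  {h | ∃ y ∈ M, (∀ i, i ≠ o → (y : Matrix ι ι K) i o = 0) ∧
    ∀ i j : {i : ι // i ≠ o}, (y : Matrix ι ι K) i j = (h : Matrix _ _ K) i j}

/-- transpose-inverse, as an automorphism of `GL`. -/
def tinv : GL ι K ≃* GL ι K where
  toFun g := ⟨((g⁻¹ : GL ι K) : Matrix ι ι K)ᵀ, ((g : GL ι K) : Matrix ι ι K)ᵀ,
    by rw [← Matrix.transpose_mul, ← Units.val_mul, mul_inv_cancel, Units.val_one, Matrix.transpose_one],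
    by rw [← Matrix.transpose_mul, ← Units.val_mul, inv_mul_cancel, Units.val_one, Matrix.transpose_one]⟩
  invFun g := ⟨((g⁻¹ : GL ι K) : Matrix ι ι K)ᵀ, ((g : GL ι K) : Matrix ι ι K)ᵀ,
    by rw [← Matrix.transpose_mul, ← Units.val_mul, mul_inv_cancel, Units.val_one, Matrix.transpose_one],
    by rw [← Matrix.transpose_mul, ← Units.val_mul, inv_mul_cancel, Units.val_one, Matrix.transpose_one]⟩
  left_inv g := by
    apply Units.ext
    show (((⟨_, _, _, _⟩ : GL ι K)⁻¹ : GL ι K) : Matrix ι ι K)ᵀ = _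
    simp [Units.inv_mk]
  right_inv g := by
    apply Units.ext
    show (((⟨_, _, _, _⟩ : GL ι K)⁻¹ : GL ι K) : Matrix ι ι K)ᵀ = _
    simp [Units.inv_mk]
  map_mul' g h := by
    apply Units.ext
    show (((g * h)⁻¹ : GL ι K) : Matrix ι ι K)ᵀ = ((g⁻¹ : GL ι K) : Matrix ι ι K)ᵀ * ((h⁻¹ : GL ι K) : Matrix ι ι K)ᵀ
    rw [_root_.mul_inv_rev, Units.val_mul, Matrix.transpose_mul]

@[simp] theorem tinv_val (g : GL ι K) :
    ((tinv g : GL ι K) : Matrix ι ι K) = ((g⁻¹ : GL ι K) : Matrix ι ι K)ᵀ := rfl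

@[simp] theorem tinv_inv_val (g : GL ι K) :
    (((tinv g)⁻¹ : GL ι K) : Matrix ι ι K) = ((g : GL ι K) : Matrix ι ι K)ᵀ := rfl

/-- the transpose-inverse of a subgroup. -/
def MT (M : Subgroup (GL ι K)) : Subgroup (GL ι K) := M.map (tinv (ι := ι) (K := K)).toMonoidHom

end Cfsg.Agent.MonoP
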