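import Mathlib
import Cfsg.Prelude.Def_GeometricClasses
import Cfsg.Agent.Helper19.Mono.Defs
import Cfsg.Agent.Helper20.S5634SMALL
import Cfsg.Agent.Helper20.S5634ROWCLR
import Cfsg.Agent.Helper20.S5634STDFRAME
import Cfsg.Agent.Helper18.S5634ONECOL
import Cfsg.Agent.Helper11.S5634BLOCKEMB
import Cfsg.Agent.Helper11.S5634SECGRP
import Cfsg.Agent.Helper5.S5634SECMONO
import Cfsg.Agent.Helper22.S5634CUT
import Cfsg.Agent.Helper22.S5634SECLIFT
import Cfsg.Agent.Helper24.S5634DUAL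
import Cfsg.Agent.Helper8.S5634SUPP
import Cfsg.Agent.Helper8.S5634ALLNZ
import Cfsg.Agent.Helper9.S5634FULL
import Cfsg.Agent.Helper9.S5634ZERO
import Cfsg.Agent.Helper26.S5634TWO
import Cfsg.Agent.Helper3.S5634FIVE
import Cfsg.Agent.Helper13.S5634COLSL
import Cfsg.Agent.Helper14.S5634GENSL
import Cfsg.Agent.Helper19.S5634MONOGRP
import Cfsg.Agent.Helper19.S5634CONJMAX
import Cfsg.Agent.Helper19.S5634BIG

/-! S5634, monomial half (driver helper19): assemblies `GLthm`, `SLthm`, `Mono.maximal`. -/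

set_option autoImplicit false

namespace Cfsg.Agent.MonoP

open Matrix

variable {ι : Type} [Fintype ι] [DecidableEq ι] {K : Type*} [Field K] [Fintype K]

/-- **GL theorem**: a subgroup of `GL ι K` (`|K| ≥ 5`, `|ι| ≥ 3`) containing all monomial matrices and no elementary
transvection is monomial. -/
theorem GLthm (hK : 5 ≤ Fintype.card K) (hι : 3 ≤ Fintype.card ι) (H : Subgroup (GL ι K)) (hmon : MonoLE H)
    (hE : ¬ HasE H) : ∀ g : GL ι K, g ∈ H → IsMono (g : Matrix ι ι K) := by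
  have key : ∀ A : Finset ι, ∀ g : GL ι K, g ∈ H → SuppOn A (g : Matrix ι ι K) →
      IsMono (g : Matrix ι ι K) := by
    intro A
    induction A using Finset.strongInduction with
    | H A ih =>
      intro g hg hA
      by_contra hnm
      have hB : ∀ y : GL ι K, y ∈ H → SuppOn A (y : Matrix ι ι K) →
          (∃ k ∈ A, ∃ k' : ι, ∀ i, i ≠ k' → (y : Matrix ι ι K) i k = 0) → IsMono (y : Matrix ι ι K) := by
        rintro y hy hyA ⟨k, hk, k', hcol⟩
        exact ONECOL.isMono (by omega) H hmon hE A (fun A' hA' g' hg' hs => ih A' hA' g' hg' hs)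
          y hy hyA k hk k' hcol
      have hNZ : ∀ y : GL ι K, y ∈ H → SuppOn A (y : Matrix ι ι K) → ¬ IsMono (y : Matrix ι ι K) →
          ∀ i ∈ A, ∀ k ∈ A, (y : Matrix ι ι K) i k ≠ 0 :=
        fun y hy hyA hynm => ALLNZ.ne_zero (by omega) H hmon A hB y hy hyA hynm
      rcases lt_trichotomy A.card 2 with h | h | h
      · exact hnm (SMALL.isMono A (by omega) _ hA)
      · obtain ⟨a, b, hab, rfl⟩ := Finset.card_eq_two.mp h
        obtain ⟨h5, hh⟩ := TWO.harmonic hK H hmon a b hab hNZ g hg hA hnm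
        have hnz := hNZ g hg hA hnm
        have ha : a ∈ ({a, b} : Finset ι) := by simp
        have hb : b ∈ ({a, b} : Finset ι) := by simp
        exact hE (FIVE.hasE h5 hι H hmon a b hab g hg hA
          ⟨hnz a ha a ha, hnz a ha b hb, hnz b hb a ha, hnz b hb b hb⟩ hh)
      · exact BIG.false hK H hmon A (by omega) hNZ g hg hA hnm
  intro g hg
  exact key Finset.univ g hg (fun i j h => by simp at h)

/-- **SL theorem**: a subgroup of `SL ι K` (`|K| ≥ 5`, `|ι| ≥ 6`) containing the monomial matrices of determinant one and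
no elementary transvection is monomial. -/
theorem SLthm (hK : 5 ≤ Fintype.card K) (hι : 6 ≤ Fintype.card ι) (M : Subgroup (GL ι K))
    (hSL : M ≤ Cfsg.Geo.specialLinear ι K) (hmon : MonoSLE M) (hE : ¬ HasE M) :
    ∀ g : GL ι K, g ∈ M → IsMono (g : Matrix ι ι K) := by
  have hGL : ∀ (o : ι) (S : Subgroup (GL {i : ι // i ≠ o} K)), MonoLE S → ¬ HasE S →
      ∀ h ∈ S, IsMono ((h : GL {i : ι // i ≠ o} K) : Matrix {i : ι // i ≠ o} {i : ι // i ≠ o} K) := by
    intro o S hS1 hS2 h hh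
    have hc : 3 ≤ Fintype.card {i : ι // i ≠ o} := by
      have := Fintype.card_subtype_compl (fun i : ι => i = o)
      simp only [Fintype.card_subtype_eq] at this
      have h2 : Fintype.card {i : ι // i ≠ o} = Fintype.card {i : ι // ¬ i = o} := rfl
      omega
    exact GLthm hK hc S hS1 hS2 h hh
  have hBgen : ∀ M' : Subgroup (GL ι K), M' ≤ Cfsg.Geo.specialLinear ι K → MonoSLE M' → ¬ HasE M' →
      ∀ y : GL ι K, y ∈ M' → ColMono (y : Matrix ι ι K) → IsMono (y : Matrix ι ι K) :=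
    fun M' h1 h2 h3 y hy hc => COLSL.isMono hK (by omega) M' h1 h2 h3 hGL y hy hc
  have hB := hBgen M hSL hmon hE
  have hBT := hBgen (MT M) (DUAL.le_SL M hSL) (DUAL.monoSLE M hmon) (DUAL.not_hasE M hE)
  have hcol : ∀ y : GL ι K, y ∈ M → ¬ IsMono (y : Matrix ι ι K) →
      ∀ k i₁ i₂ : ι, i₁ ≠ i₂ → (y : Matrix ι ι K) i₁ k = 0 → (y : Matrix ι ι K) i₂ k = 0 → False :=
    fun y hy hnm k i₁ i₂ h12 h1 h2 => SUPP.col hK hι M hmon hB y hy hnm k i₁ i₂ h12 h1 h2
  have hrow : ∀ y : GL ι K, y ∈ M → ¬ IsMono (y : Matrix ι ι K) →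
      ∀ i k₁ k₂ : ι, k₁ ≠ k₂ → (y : Matrix ι ι K) i k₁ = 0 → (y : Matrix ι ι K) i k₂ = 0 → False := by
    intro y hy hnm i k₁ k₂ h12 h1 h2
    have hz : tinv (y⁻¹) ∈ MT M := (DUAL.mem M _).mpr (M.inv_mem hy)
    have hzv : ((tinv (y⁻¹) : GL ι K) : Matrix ι ι K) = (y : Matrix ι ι K)ᵀ := by
      rw [tinv_val, inv_inv]
    have hznm : ¬ IsMono ((tinv (y⁻¹) : GL ι K) : Matrix ι ι K) := by
      rw [hzv, DUAL.isMono_transpose]; exact hnm
    exact SUPP.col hK hι (MT M) (DUAL.monoSLE M hmon) hBT _ hz hznm i k₁ k₂ h12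
      (by rw [hzv]; exact h1) (by rw [hzv]; exact h2)
  have hnz := fun (y : GL ι K) (hy : y ∈ M) (hnm : ¬ IsMono (y : Matrix ι ι K)) =>
    ZERO.ne_zero hK hι M hmon hcol hrow y hy hnm
  exact FULL.isMono (by omega) (by omega) M hmon hnz

theorem mem_SL_iff' (g : GL ι K) :
    g ∈ Cfsg.Geo.specialLinear ι K ↔ (g : Matrix ι ι K).det = 1 := by
  show Matrix.GeneralLinearGroup.det g = 1 ↔ _
  rw [Units.ext_iff]
  rfl

/-- the monomial group of determinant one is maximal in `SL` -/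
theorem Mono.maximal_std (hK : 5 ≤ Fintype.card K) (hι : 6 ≤ Fintype.card ι) (N : Subgroup (GL ι K))
    (hN : ∀ g : GL ι K, g ∈ N ↔ IsMono (g : Matrix ι ι K)) :
    Cfsg.Geo.IsMaximalIn (Cfsg.Geo.specialLinear ι K) (N ⊓ Cfsg.Geo.specialLinear ι K) := by
  classical
  refine ⟨lt_of_le_of_ne inf_le_right ?_, ?_⟩
  · intro heq
    have hnt : Nontrivial ι := Fintype.one_lt_card_iff_nontrivial.mp (by omega)
    obtain ⟨a, b, hab⟩ := exists_pair_ne ι
    set τ : GL ι K := Matrix.SpecialLinearGroup.toGL (Matrix.SpecialLinearGroup.transvection hab (1 : K))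
      with hτ
    have hτv : (τ : Matrix ι ι K) = Matrix.transvection a b 1 := by
      rw [hτ]; simp [Matrix.SpecialLinearGroup.transvection_coe, Matrix.transvection]
    have hτSL : τ ∈ Cfsg.Geo.specialLinear ι K := by
      rw [mem_SL_iff', hτv, Matrix.det_transvection_of_ne _ _ hab]
    have : τ ∈ N ⊓ Cfsg.Geo.specialLinear ι K := by rw [heq]; exact hτSL
    have h1 := (hN τ).mp this.1
    rw [hτv] at h1
    exact MONOGRP.not_isMono_transvection a b hab 1 one_ne_zero h1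
  · intro M h1 h2
    have hmonM : MonoSLE M := fun g hg hdet => h1 ⟨(hN g).mpr hg, (mem_SL_iff' g).mpr hdet⟩
    by_cases hE : HasE M
    · right
      exact le_antisymm h2 (GENSL.le (by omega) (by omega) M hmonM hE)
    · left
      refine le_antisymm ?_ h1
      intro g hg
      exact ⟨(hN g).mpr (SLthm hK hι M h2 hmonM hE g hg), h2 hg⟩

/-- **Monomial half of S5634**: the stabiliser in `SL_n(K)` of a decomposition into lines is maximal (`|K| ≥ 5`, `n ≥ 6`). -/
theorem Mono.maximal {n t : ℕ} (hn : 6 ≤ n) (hK : 5 ≤ Fintype.card K)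
    (D : Fin t → Submodule K (Fin n → K)) (hD : Cfsg.Geo.IsMDecomposition 1 D) :
    Cfsg.Geo.IsMaximalIn (Cfsg.Geo.specialLinear (Fin n) K)
      (Cfsg.Geo.decompositionStabilizer D ⊓ Cfsg.Geo.specialLinear (Fin n) K) := by
  obtain ⟨N, hN⟩ := MONOGRP.exists_subgroup (ι := Fin n) (K := K)
  obtain ⟨B, hB⟩ := STDFRAME.exists_conj D hD
  exact CONJMAX.isMaximalIn B N (Cfsg.Geo.decompositionStabilizer D) (fun g => by rw [hB g, hN])
    (Mono.maximal_std hK (by simpa using hn) N hN)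

end Cfsg.Agent.MonoP
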