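import Cfsg.Agent.Helper27.S5634BDefs
import Cfsg.Agent.Helper8.S5634BALL
import Cfsg.Agent.Helper24.S5634BCMP
import Cfsg.Agent.Helper25.S5634BDUAL1
import Cfsg.Agent.Helper25.S5634BDUAL2
import Cfsg.Agent.Lead.S5634BEE1
import Cfsg.Agent.Lead.S5634BEE2
import Cfsg.Agent.Helper11.S5634BHMEM
import Cfsg.Agent.Helper11.S5634BLCLA
import Cfsg.Agent.Helper12.S5634BNONSTAB
import Cfsg.Agent.Helper21.S5634BOFFA
import Cfsg.Agent.Helper8.S5634BOFFB
import Cfsg.Agent.Helper23.S5634BPROPER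
import Cfsg.Agent.Helper4.S5634BSPREADP
import Cfsg.Agent.Helper18.S5634BSPREADT
import Cfsg.Agent.Helper10.S5634BSWAP

set_option autoImplicit false
set_option linter.unusedSectionVars false
set_option linter.unusedVariables false

/-! # S5634, half `m ≥ 2`: assembly (helper27) -/

namespace Cfsg.Agent.S5634P

open Matrix Cfsg.Agent.Helper28.SLMax
open scoped MatrixGroups

variable {F : Type*} [Field F] {n t m : ℕ} {D : Fin t → Submodule F (Fin n → F)}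

namespace OFF

theorem exists_mu [Fintype F] (h : Fintype.card F ≠ 2) : ∃ μ : F, μ ≠ 0 ∧ μ ≠ 1 := by
  classical
  by_contra hne
  push_neg at hne
  have hsub : (Finset.univ : Finset F) ⊆ {0, 1} := by
    intro x _
    by_cases hx : x = 0
    · simp [hx]
    · simp [hne x hx]
  have h1 : Fintype.card F ≤ 2 := by
    calc Fintype.card F = (Finset.univ : Finset F).card := Finset.card_univ.symm
      _ ≤ ({0, 1} : Finset F).card := Finset.card_le_card hsub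
      _ ≤ 2 := Finset.card_le_two
  have h2 : 1 < Fintype.card F := Fintype.one_lt_card
  omega

/-- a block where `ker ψ ∩ D c` is inside the line of the component `w_c`: `ψ w_c = 0` and `ψ ≠ 0` on `D c` -/
theorem bad_block (hD : Cfsg.Geo.IsMDecomposition m D) (hm : 2 ≤ m) {w ψ : Fin n → F} {c : Fin t}
    (hc : cmp D c w ≠ 0)
    (hG : ∀ y ∈ D c, ψ ⬝ᵥ y = 0 → y ∈ Submodule.span F {cmp D c w}) :
    ψ ⬝ᵥ cmp D c w = 0 ∧ ∃ z ∈ D c, ψ ⬝ᵥ z = 1 := by
  constructor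
  · obtain ⟨y, hy, hy0, hψy⟩ := DUAL.exists_ker hD hm c ψ
    obtain ⟨l, hl⟩ := Submodule.mem_span_singleton.mp (hG y hy hψy)
    have hl0 : l ≠ 0 := by
      rintro rfl
      rw [zero_smul] at hl
      exact hy0 hl.symm
    rw [← hl, dotProduct_smul, smul_eq_mul] at hψy
    exact (mul_eq_zero.mp hψy).resolve_left hl0
  · obtain ⟨y, hy, hyw⟩ := DUAL.exists_indep hD hm c (cmp D c w)
    have hψy : ψ ⬝ᵥ y ≠ 0 := fun h => hyw (hG y hy h)
    refine ⟨(ψ ⬝ᵥ y)⁻¹ • y, (D c).smul_mem _ hy, ?_⟩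
    rw [dotProduct_smul, smul_eq_mul, inv_mul_cancel₀ hψy]

/-- **OFF**: a transvection of `M` with centre in no block yields an off-diagonal block transvection in `M`. -/
theorem «exists» [Fintype F] (hD : Cfsg.Geo.IsMDecomposition m D) (hm : 2 ≤ m) (hn : 13 ≤ n)
    (h2 : ¬ (m = 2 ∧ Fintype.card F = 2)) (M : Subgroup (GL (Fin n) F)) (hHM : HH D ≤ M)
    {w ψ : Fin n → F} (hT : EE w ψ ∈ M) (hψw : ψ ⬝ᵥ w = 0) (hψ : ψ ≠ 0) (hw : ∀ c, w ∉ D c) :
    OffIn D M := by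
  obtain ⟨a, b, hab, ha, hb⟩ := CMP.exists_two hD hw
  by_cases hGa : ∃ y ∈ D a, ψ ⬝ᵥ y = 0 ∧ y ∉ Submodule.span F {cmp D a w}
  · obtain ⟨y, hy, hψy, hyw⟩ := hGa
    exact OFFA.off hD hm M hHM hT hψw hψ hab ha hb hy hψy hyw
  by_cases hGb : ∃ y ∈ D b, ψ ⬝ᵥ y = 0 ∧ y ∉ Submodule.span F {cmp D b w}
  · obtain ⟨y, hy, hψy, hyw⟩ := hGb
    exact OFFA.off hD hm M hHM hT hψw hψ hab.symm hb ha hy hψy hyw
  push_neg at hGa hGb
  have hm2 : m = 2 := by
    by_contra hne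
    have hm3 : 3 ≤ m := by omega
    obtain ⟨y, hy, hψy, hyw⟩ := DUAL.exists_ker2 hD hm3 a ψ (cmp D a w)
    exact hyw (hGa y hy hψy)
  have ht : 3 ≤ t := by
    have := CMP.card hD
    subst hm2
    omega
  have hF : ∃ μ : F, μ ≠ 0 ∧ μ ≠ 1 := exists_mu (fun h => h2 ⟨hm2, h⟩)
  obtain ⟨hψa, za, hza, hψza⟩ := bad_block hD hm ha hGa
  obtain ⟨hψb, zb, hzb, hψzb⟩ := bad_block hD hm hb hGb
  exact OFFB.off hD hm hF ht M hHM hT hψw hab ha hb hψa hψb hza hzb hψza hψzb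

end OFF

/-- **The half `m ≥ 2` of S5634.** -/
theorem Block.maximal [Fintype F] (hn : 13 ≤ n) (hm : 2 ≤ m) (hD : Cfsg.Geo.IsMDecomposition m D)
    (h2 : ¬ (m = 2 ∧ Fintype.card F = 2)) :
    Cfsg.Geo.IsMaximalIn (Cfsg.Geo.specialLinear (Fin n) F)
      (Cfsg.Geo.decompositionStabilizer D ⊓ Cfsg.Geo.specialLinear (Fin n) F) := by
  refine ⟨lt_of_le_of_ne inf_le_right ?_, ?_⟩
  · intro heq
    obtain ⟨g, hg, hgs⟩ := PROPER.exists hD
    have : g ∈ Cfsg.Geo.decompositionStabilizer D ⊓ Cfsg.Geo.specialLinear (Fin n) F := by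
      rw [heq]; exact hg
    exact hgs this.1
  · intro M hHM hMS
    by_cases hMH : M ≤ Cfsg.Geo.decompositionStabilizer D ⊓ Cfsg.Geo.specialLinear (Fin n) F
    · left; exact le_antisymm hMH hHM
    right
    refine le_antisymm hMS ?_
    obtain ⟨g, hgM, hgH⟩ := SetLike.not_le_iff_exists.mp hMH
    have hgS : g ∉ Cfsg.Geo.decompositionStabilizer D := fun h => hgH ⟨h, hMS hgM⟩
    obtain ⟨i, v, hv, hmix⟩ := NONSTAB.exists_mixed hD g hgS
    obtain ⟨φ, hφ, hφ0, hφv⟩ := DUAL.exists_ne hD hm i hv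
    have h1 : EE v φ ∈ M := hHM (HMEM.EE_mem_HH hD hv hφ hφv)
    have h3 : EE ((g : Matrix (Fin n) (Fin n) F) *ᵥ v) (dact g φ) ∈ M := by
      rw [← EE.conj]
      exact M.mul_mem (M.mul_mem hgM h1) (M.inv_mem hgM)
    have hoff : OffIn D M :=
      OFF.exists hD hm hn h2 M hHM h3 (by rw [dact_dot_mulVec]; exact hφv) (EE.dact_ne_zero g hφ0) hmix
    have hall := SPREAD.all hD hm M hHM hoff
    have hpure : ∀ c d, ∀ x ∈ D c, ∀ χ ∈ Dl D d, χ ⬝ᵥ x = 0 → EE x χ ∈ M := by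
      intro c d x hx χ hχ h0
      by_cases hcd : c = d
      · subst hcd
        exact hHM (HMEM.EE_mem_HH hD hx hχ h0)
      · exact hall c d hcd x hx χ hχ
    have hTall := ALL.mem hD M hpure
    have hn2 : 2 ≤ n := by omega
    exact SL_le_of_transvections hn2 M (fun v φ h => by rw [← EE_eq_Eg h]; exact hTall v φ h)

end Cfsg.Agent.S5634P
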